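import Cfsg.Agent.Lib.Mult.Glue
import Cfsg.Agent.Lib.Grp.G25.Main

set_option autoImplicit false
set_option maxRecDepth 100000
set_option Elab.async false

namespace Cfsg.Agent.Mult.G25

open Cfsg.Agent.CG Cfsg.Agent.CG.G25

noncomputable def p2T : ℕ := 0x600c0180300600c0180300600c018030000000180300500c014030350180140300500c00000000000000000340180100300400c0100300000000000000000014031ab02758c0c00300c0000000000000000000000000000220180080300000000000000000000000000000100300100c00000000000000000000000000000000000000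
noncomputable def p2q1 : ℕ := 0x1800280040004000400300050008006800c8006000a001000d0019
noncomputable def p2q2 : ℕ := 0x100188006d62200b00030005023200440d60006d63400680ad0019
noncomputable def p2NF : ℕ := 0x200000000000000000000000000000000000000000000000000000000000040000000000000000040201000000000000000000000000000000000000000000000000000000000000000000000000000000001000000000000000200000000000000000000000040000000000000000000000000000000000000000000000000000000000000000000000000000000000000000000000000000001000000000000000000000040000000000000000000001000000000000000000000000000000000000000000000000000000000000000000000000000000000000000000000000000000000000000000000000000200000000000000000000008000000000000000000000000000000000000000000000000000000000000000000000000000000000000000000000000000000000000000000000000000000000000000000000008000000000000000000000000000000000000000000000000000000000000000000000000000000000000000000000000000000000000000000000000000000000000000000000000000000000000000000000000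
noncomputable def p2mNF : ℕ := 0x1ffffffffffffffffffff
noncomputable def p2gv : ℕ := 0x200008000001000040200000000001008040201008040000008040001000000000000000001008040201000040000000040200000000000000000001
noncomputable def p2mgv : ℕ := 0x1ffffffffffffffffffff
noncomputable def p2av : ℕ := 0x40200000000000000000200000000000000000000008040000000000000000000000000000000000000000000000000000000000000000000000000000000000000000000000
noncomputable def p2mav : ℕ := 0x1ffffffffffffffffffff
noncomputable def p2mu : ℕ := 0x150000000150010000000000001141001000000000000000000000000000000000000000155441000000000000000000551000000000000000000000000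
noncomputable def p2om : ℕ := 0x0
noncomputable def p2tm : ℕ := 0x92492492492492492492490608420716490b0c130e92490934a0249249144d292492491142492492490f924924924924
noncomputable def p2par : ℕ := 0x182e5880f107d420
noncomputable def p2z : Desc := ⟨0,0,0,0,[],[]⟩
noncomputable def p2ds : Tr Desc := (.node (.node (.node (.node (.node (.node (.leaf p2z) (.leaf ⟨0,0,0,0,[],[]⟩)) (.node (.leaf ⟨0,5,0,0,[],[]⟩) (.leaf ⟨1,0x4,4,3,[],[]⟩))) (.node (.node (.leaf ⟨0,3,0,0,[],[]⟩) (.leaf ⟨0,1,0,0,[],[]⟩)) (.node (.leaf ⟨0,8,0,0,[],[]⟩) (.leaf p2z)))) (.node (.node (.node (.leaf p2z) (.leaf ⟨1,0x3,1,1,[],[]⟩)) (.node (.leaf p2z) (.leaf p2z))) (.node (.node (.leaf p2z) (.leaf ⟨1,0x5,2,2,[],[]⟩)) (.node (.leaf p2z) (.leaf p2z))))) (.node (.node (.node (.node (.leaf p2z) (.leaf p2z)) (.node (.leaf p2z) (.leaf p2z))) (.node (.node (.leaf p2z) (.leaf p2z)) (.node (.leaf p2z) (.leaf p2z)))) (.node (.node (.node (.leaf p2z) (.leaf ⟨1,0x3,3,3,[],[]⟩)) (.node (.leaf ⟨0,6,0,0,[],[]⟩) (.leaf p2z))) (.node (.node (.leaf p2z) (.leaf ⟨1,0x6,1,1,[],[]⟩))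 (.node (.leaf ⟨1,0x2,2,1,[],[]⟩) (.leaf p2z)))))) (.node (.node (.node (.node (.node (.leaf p2z) (.leaf p2z)) (.node (.leaf p2z) (.leaf p2z))) (.node (.node (.leaf p2z) (.leaf p2z)) (.node (.leaf p2z) (.leaf p2z)))) (.node (.node (.node (.leaf p2z) (.leaf ⟨1,0x3,2,2,[],[]⟩)) (.node (.leaf p2z) (.leaf p2z))) (.node (.node (.leaf p2z) (.leaf ⟨1,0x5,5,3,[],[]⟩)) (.node (.leaf ⟨1,0x1,1,1,[],[]⟩) (.leaf p2z))))) (.node (.node (.node (.node (.leaf p2z) (.leaf p2z)) (.node (.leaf p2z) (.leaf p2z))) (.node (.node (.leaf p2z) (.leaf ⟨1,0x5,5,1,[],[]⟩)) (.node (.leaf p2z) (.leaf p2z)))) (.node (.node (.node (.leaf p2z) (.leaf ⟨1,0x5,1,1,[],[]⟩)) (.node (.leaf ⟨0,7,0,0,[],[]⟩) (.leaf p2z))) (.node (.node (.leaf ⟨0,4,0,0,[],[]⟩) (.leaf ⟨1,0x5,5,5,[],[]⟩)) (.node (.leaf ⟨0,2,0,0,[],[]⟩) (.leaf p2z)))))))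
noncomputable def p2rd : Tr Desc := (.node (.node (.node (.leaf ⟨2,2,0,0,[4,4],[]⟩) (.leaf ⟨2,2,0,0,[1,1],[]⟩)) (.leaf ⟨2,1,0,0,[3,2],[2,3]⟩)) (.node (.node (.leaf ⟨2,0,0,0,[2,2],[]⟩) (.leaf ⟨2,1,0,0,[2,2],[]⟩)) (.leaf ⟨2,1,0,0,[1,1],[]⟩)))
noncomputable def D2 : Dat where
  p := 2
  q := 2
  n1 := 7
  b := 3
  fl := 5
  ew := 22
  T := p2T
  w := 10
  fuel := 32
  nf := 3
  cm := 5
  q1 := fun x => look 0x7fff p2q1 (Nat.mul 15 x)
  q2 := fun x => look 0x7fff p2q2 (Nat.mul 15 x)
  NV := 64
  d := 9
  w2 := 9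
  NF := fun x => look p2mNF p2NF (Nat.mul 81 x)
  tm := fun x => look 0x3f p2tm (Nat.mul 6 x)
  TM := 36
  par := fun x => look 0x7f p2par (Nat.mul 7 x)
  ds := fun x => p2ds.get x
  r := 6
  s0 := 0
  gv := fun x => look p2mgv p2gv (Nat.mul 81 x)
  rd := fun x => p2rd.get x
  av := fun x => look p2mav p2av (Nat.mul 81 x)
  mw := 2
  mu := fun x => look 0xfff p2mu (Nat.mul 12 x)
  ms := []
  om := fun x => look 0xfff p2om (Nat.mul 12 x)
noncomputable def p2w1 : List (List ℕ) := [[44,5,18,6,39,42,11,43],
  [20,32,12,17,37,42,1,13,37,0],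
  [3,18,22,6,44,11,40,41,43,0],
  [44,31,10,6,40,42,14,4,0,39],
  [19,32,8,42,44,13,4,37],
  [17,43,17,0,42,12,9,0,0],
  [4,21,20,41,13,13,4,43,38],
  [40,31,17,11,38,42,43,0],
  [12,22,15,6,12,44,41,13,4]]
noncomputable def p2w2 : List (List ℕ) := [[1],
  [2],
  [3],
  [4],
  [5],
  [6]]
noncomputable def p2L0c : ℕ := 0xbcb1166e8187c254b00a9290fe01267dc032b4
noncomputable def p2L0p : ℕ := 0x6000080000800000000200000000000000
noncomputable def p2L0l : ℕ := 0x60000c0001800030000a00014000300000
noncomputable def p2L0q : ℕ := 0x50000c0000000000000000000000000000000070000000004000000000000080000000010000000000000000000000000000600000000000000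
noncomputable def p2L1c : ℕ := 0x1fc0254948
noncomputable def p2L1p : ℕ := 0x0
noncomputable def p2L1l : ℕ := 0x100000
noncomputable def p2L1q : ℕ := 0x80000
noncomputable def p2L2c : ℕ := 0xa9600c3e12f2c459ba0
noncomputable def p2L2p : ℕ := 0x200000000000000
noncomputable def p2L2l : ℕ := 0x200004000200000
noncomputable def p2L2q : ℕ := 0x200008000000000000000000c000000000
noncomputable def p2L : List Lvl := [mkLvl 12980 [6,5,3] 8 19 p2L0c p2L0p p2L0l 27 p2L0q,
  mkLvl 346440 [2] 2 19 p2L1c p2L1p p2L1l 7 p2L1q,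
  mkLvl 367520 [4,1] 4 19 p2L2c p2L2p p2L2l 9 p2L2q]

theorem p2c0 : okcb 19530 20 (bases p2L) = true := by decide +kernel
theorem p2c1 : D2.chkNum 0 6 5859000000 p2w2 p2L = true := by decide +kernel
theorem p2c2 : headAll (appW (appW app p2w1) p2w2) p2L [] = true := by decide +kernel
theorem p2c3 : allL (fun l => l.chk (appW (appW app p2w1) p2w2) 1 (l.N - 1)) p2L = true := by decide +kernel
theorem p2c4 : D2.chkPc (appW app p2w1) bs 0 49 = true := by decide +kernel
theorem p2c5 : D2.chkFus (appW app p2w1) bs 0 15 = true := by decide +kernel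
theorem p2c6 : D2.chkHead = true := by decide +kernel
theorem p2c7 : D2.chkVars 0 64 = true := by decide +kernel
theorem p2c8 : D2.chkRhos 0 6 = true := by decide +kernel
theorem p2c9 : D2.chkEnts 0 49 = true := by decide +kernel

set_option linter.unusedSectionVars false

variable [hF : Fact (Bounds tcR tcS 5859000000)]
include hF

theorem pb2 : PB PG 2 [] :=
  Dat.pbA (D := D2) base card (by norm_num : Nat.Prime 2) (okc_of_okcb p2c0) p2c1 p2c2 p2c3
    p2c4
    p2c5
    p2c6 p2c7
    p2c8
    p2c9

end Cfsg.Agent.Mult.G25
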